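import Cfsg.Agent.Linear.Dickson.Borel
import Cfsg.Agent.Linear.Dickson.Scaled

/-!
`PSL₂(K)` for odd `K`: the unipotent subgroup, the torus acting on it, and real elements.
-/

set_option autoImplicit false

namespace Cfsg.Agent.Linear.Mitchell.PSLTwo

open Matrix Cfsg.Agent.Linear Cfsg.Agent.Linear.Dickson
open scoped MatrixGroups

variable {K : Type*} [Field K]

local notation "M2" => Matrix (Fin 2) (Fin 2) K
local notation "S2" => Matrix.SpecialLinearGroup (Fin 2) K
local notation "P2" => Matrix.ProjectiveSpecialLinearGroup (Fin 2) K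

/-- The image of the elementary unipotent matrices. -/
noncomputable def upU (a : K) : P2 := proj (upSL a)

theorem upU_add (a b : K) : upU (a + b) = upU a * upU b := by rw [upU, upU, upU, upSL_add, map_mul]

theorem upU_zero : upU (0 : K) = 1 := by rw [upU, upSL_zero, map_one]

theorem upU_eq_one_iff {a : K} : upU a = 1 ↔ a = 0 := by
  rw [upU, proj_eq_one_iff]
  simp [IsScalarTwo, upSL_coe]

theorem upU_injective : Function.Injective (upU (K := K)) := fun a b h => by
  have : upU (a - b) = 1 := by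
    have e := upU_add (a - b) b
    rw [sub_add_cancel, h] at e
    exact right_eq_mul.mp e
  exact sub_eq_zero.mp (upU_eq_one_iff.mp this)

theorem upU_mem [Fintype K] (a : K) : upU a ∈ cen (stdUni : P2) := mem_cen_stdUni.mpr (by simp [upSL_coe])

theorem exists_upU [Fintype K] {v : P2} (hv : v ∈ cen (stdUni : P2)) : ∃ a, upU a = v := by
  let f : K → cen (stdUni : P2) := fun a => ⟨upU a, upU_mem a⟩
  have hb : Function.Bijective f :=
    Function.Injective.bijective_of_nat_card_le (fun a b h => upU_injective (congrArg Subtype.val h))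
      (by rw [card_cen_stdUni, Nat.card_eq_fintype_card])
  obtain ⟨a, ha⟩ := hb.2 ⟨v, hv⟩
  exact ⟨a, congrArg Subtype.val ha⟩

theorem upU_pow_char (r₀ : ℕ) [Fact r₀.Prime] [CharP K r₀] (a : K) : upU a ^ r₀ = 1 :=
  pow_char_eq_one_of_isUni r₀ (isUni_proj.mpr (by rw [trace_upSL]; norm_num))

/-- The diagonal element. -/
noncomputable def torSL (z : Kˣ) : S2 :=
  ⟨!![(z : K), 0; 0, ((z⁻¹ : Kˣ) : K)], by simp [Matrix.det_fin_two]⟩

/-- The image of the diagonal element. -/
noncomputable def torEl (z : Kˣ) : P2 := proj (torSL z)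

theorem torSL_coe (z : Kˣ) : ((torSL z : S2) : M2) = !![(z : K), 0; 0, ((z⁻¹ : Kˣ) : K)] := rfl

theorem torEl_conj (z : Kˣ) (a : K) : torEl z * upU a * (torEl z)⁻¹ = upU ((z : K) * z * a) := by
  rw [mul_inv_eq_iff_eq_mul, torEl, upU, upU, ← map_mul, ← map_mul]
  congr 1
  apply Subtype.ext
  rw [Matrix.SpecialLinearGroup.coe_mul, Matrix.SpecialLinearGroup.coe_mul]
  ext i j
  fin_cases i <;> fin_cases j <;>
    simp [upSL_coe, torSL_coe, Matrix.mul_apply, Fin.sum_univ_two] <;> field_simp

theorem torEl_pow_conj (z : Kˣ) (m : ℕ) (a : K) :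
    torEl z ^ m * upU a * (torEl z ^ m)⁻¹ = upU (((z : K) * z) ^ m * a) := by
  induction m generalizing a with
  | zero => simp
  | succ k ih =>
    rw [pow_succ, show torEl z ^ k * torEl z * upU a * (torEl z ^ k * torEl z)⁻¹ =
      torEl z ^ k * (torEl z * upU a * (torEl z)⁻¹) * (torEl z ^ k)⁻¹ by group, torEl_conj, ih, pow_succ,
      ← mul_assoc]

/-- The linear condition and the determinant condition for an element inverting `X`. -/
theorem exists_coeffs [Fintype K] (h2 : (2 : K) ≠ 0) (a b c d : K)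
    (h : (a - d) ^ 2 + 4 * b * c ≠ 0 ∨ IsSquare (-1 : K)) :
    ∃ α β γ : K, -α ^ 2 - β * γ = 1 ∧ α * (a - d) + γ * b + β * c = 0 := by
  by_cases hc : c = 0
  · subst hc
    by_cases hb : b = 0
    · exact ⟨0, 1, -1, by simp, by simp [hb]⟩
    by_cases hD : a - d = 0
    · obtain ⟨i, hi⟩ : IsSquare (-1 : K) := h.resolve_left (by simp [hD])
      exact ⟨i, 0, -i * (a - d) / b, by linear_combination hi, by field_simp; ring⟩
    refine ⟨1, 2 * b / (a - d), -(a - d) / b, ?_, by field_simp; ring⟩
    field_simp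
    ring
  rcases h with hD | ⟨i, hi⟩
  · set k := (a - d) / (2 * c) with hk
    set w := ((a - d) ^ 2 + 4 * b * c) / (4 * c ^ 2) with hw
    have h4 : (4 : K) ≠ 0 := by rw [show (4 : K) = 2 * 2 by norm_num]; exact mul_ne_zero h2 h2
    have hw0 : w ≠ 0 := div_ne_zero hD (mul_ne_zero h4 (pow_ne_zero 2 hc))
    have hodd : Fintype.card K % 2 = 1 := by
      refine FiniteField.odd_card_of_char_ne_two fun h' => h2 ?_
      exact_mod_cast (ringChar.spec K 2).mpr (by rw [h'])
    obtain ⟨u, v, huv⟩ := FiniteField.exists_root_sum_quadratic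
      (f := -Polynomial.X ^ 2 - Polynomial.C 1) (g := Polynomial.C w * Polynomial.X ^ 2)
      (by rw [show (-Polynomial.X ^ 2 - Polynomial.C 1 : Polynomial K) = -(Polynomial.X ^ 2 + Polynomial.C 1) by ring,
        Polynomial.degree_neg, Polynomial.degree_X_pow_add_C two_pos]; rfl)
      (by rw [Polynomial.degree_C_mul_X_pow 2 hw0]; rfl) hodd
    simp only [Polynomial.eval_sub, Polynomial.eval_neg, Polynomial.eval_pow, Polynomial.eval_X,
      Polynomial.eval_C, Polynomial.eval_mul] at huv
    refine ⟨u + k * v, -((u + k * v) * (a - d) + v * b) / c, v, ?_, by field_simp; ring⟩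
    rw [hw] at huv
    rw [hk]
    field_simp at huv ⊢
    linear_combination huv
  · exact ⟨i, -i * (a - d) / c, 0, by linear_combination hi, by field_simp; ring⟩

/-- An element of non-zero discriminant is inverted by some element; any element, if `-1` is a square. -/
theorem exists_inverter [Fintype K] (h2 : (2 : K) ≠ 0) (X : S2)
    (h : (X : M2).trace ^ 2 ≠ 4 ∨ IsSquare (-1 : K)) :
    ∃ g : P2, g * proj X * g⁻¹ = (proj X)⁻¹ := by
  have hd := SL_det_two X
  obtain ⟨α, β, γ, hdet, hlin⟩ := exists_coeffs h2 ((X : M2) 0 0) ((X : M2) 0 1) ((X : M2) 1 0) ((X : M2) 1 1)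
    (h.imp_left fun hne e => hne (by rw [Matrix.trace_fin_two]; linear_combination e + 4 * hd))
  let G : S2 := ⟨!![α, β; γ, -α], by rw [Matrix.det_fin_two_of]; linear_combination hdet⟩
  have hG : ((G : S2) : M2) = !![α, β; γ, -α] := rfl
  refine ⟨proj G, ?_⟩
  rw [mul_inv_eq_iff_eq_mul, ← map_inv, ← map_mul, ← map_mul]
  congr 1
  apply Subtype.ext
  rw [Matrix.SpecialLinearGroup.coe_mul, Matrix.SpecialLinearGroup.coe_mul, Matrix.SpecialLinearGroup.coe_inv,
    Matrix.adjugate_fin_two, hG]
  ext i j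
  fin_cases i <;> fin_cases j <;> simp [Matrix.mul_apply, Fin.sum_univ_two]
  all_goals first
    | linear_combination hlin
    | linear_combination -hlin
    | ring

/-- Reality of the elements of `PSL₂(K)`. -/
theorem exists_inverter' [Fintype K] (h2 : (2 : K) ≠ 0) (x : P2) (h : ¬ IsUni x ∨ IsSquare (-1 : K)) :
    ∃ g : P2, g * x * g⁻¹ = x⁻¹ := by
  obtain ⟨X, rfl⟩ := proj_surjective x
  exact exists_inverter h2 X (h.imp_left fun hu e => hu (isUni_proj.mpr e))

end Cfsg.Agent.Linear.Mitchell.PSLTwo
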