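import Cfsg.Agent.Linear.Mitchell.PSLTwo.Lifts
import Cfsg.Agent.Linear.Mitchell.Eigen
import Cfsg.Agent.Linear.Mitchell.Traces
import Cfsg.Agent.H56.CTwoAb.Small
import Cfsg.Agent.S0493
import Mathlib.LinearAlgebra.Matrix.Charpoly.Coeff

/-!
`P` modulo scalars is `PSL₂(K)`, `K` odd: order 168 or 360, or `P` fixes a quadratic form.
-/

set_option autoImplicit false

namespace Cfsg.Agent.Linear.Mitchell.PSLTwo

open Matrix Cfsg.Geo Cfsg.Agent.Linear Cfsg.Agent.Linear.Dickson
open scoped MatrixGroups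

variable {F : Type*} [Field F] [Finite F] {P : Subgroup (GL (Fin 3) F)}

/-- The trace of a unipotent element is three. -/
theorem trace_eq_three {p : ℕ} [Fact p.Prime] [CharP F p] {x : GL (Fin 3) F} (hx : x ^ p = 1) :
    (x : Matrix (Fin 3) (Fin 3) F).trace = 3 := by
  have hN : IsNilpotent ((x : Matrix (Fin 3) (Fin 3) F) - 1) := ⟨p, by
    rw [sub_pow_char_of_commute (p := p) (h := Commute.one_right _), one_pow, ← Units.val_pow_eq_pow_val, hx,
      Units.val_one, sub_self]⟩
  have := (Matrix.isNilpotent_trace_of_isNilpotent hN).eq_zero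
  rw [Matrix.trace_sub, Matrix.trace_one, Fintype.card_fin, sub_eq_zero] at this
  exact_mod_cast this

variable {K : Type} [Field K] [Fintype K]

local notation "P2" => Matrix.ProjectiveSpecialLinearGroup (Fin 2) K

/-- The outcome for `PSL₂` of odd degree. -/
theorem outcome {p : ℕ} [Fact p.Prime] [CharP F p] (hp : p ≠ 2) (hS : Setting P)
    (hH : ∀ lam : F, HasHomology P lam → lam ^ 2 = 1) (hK : Odd (Fintype.card K))
    (e : PX P ≃* Matrix.ProjectiveSpecialLinearGroup (Fin 2) K) :
    (∃ Q : (Fin 3 → F) → F, IsNondegenerateQuadraticForm Q ∧ FixesQuadForm (matrixSet P) Q) ∨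
      projCard P = 168 ∨ projCard P = 360 := by
  classical
  have h2F : (2 : F) ≠ 0 := Ring.two_ne_zero (by rwa [ringChar.eq F p])
  obtain ⟨r₀, hr₀⟩ := CharP.exists K
  haveI : Fact r₀.Prime := ⟨CharP.char_is_prime K r₀⟩
  obtain ⟨k, -, hk⟩ := FiniteField.card K r₀
  set r := Fintype.card K with hr
  have hr2 : r % 2 = 1 := Nat.odd_iff.mp hK
  have hr0odd : Odd r₀ := (Nat.odd_pow_iff k.ne_zero).mp (hk ▸ hK)
  have hr02 : r₀ ≠ 2 := fun h => by rw [h] at hr0odd; exact absurd hr0odd (by decide)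
  have h2K : (2 : K) ≠ 0 := Ring.two_ne_zero (by rwa [ringChar.eq K r₀])
  have hcard : 2 * projCard P = r * (r ^ 2 - 1) := by
    rw [← Cfsg.Agent.H56.CTwoAb.card_psl_two_odd hr2, ← Nat.card_congr e.toEquiv]
    rfl
  by_cases h7 : r = 7
  · exact Or.inr (Or.inl (by rw [h7] at hcard; omega))
  by_cases h9 : r = 9
  · exact Or.inr (Or.inr (by rw [h9] at hcard; omega))
  have hr3 : r ≠ 3 := fun h => by
    rw [h] at hcard
    haveI := hS.simple
    have := Cfsg.Agent.S0493.result hS.not_isCyclic (show Nat.card (PX P) ≤ 100 by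
      have : projCard P = 12 := by omega
      exact this.trans_le (by norm_num))
    have h60 : projCard P = 60 := this
    omega
  have hgood : r₀ ≠ 3 ∨ p = 3 ∨ 27 ≤ r := by
    by_cases h : r₀ = 3
    · refine Or.inr (Or.inr ?_)
      rw [hk, h] at h9 hr3 ⊢
      rcases Nat.lt_or_ge (k : ℕ) 3 with hlt | hge
      · have := k.pos; interval_cases hh : (k : ℕ) <;> simp at h9 hr3
      · exact le_trans (by norm_num) (Nat.pow_le_pow_right (by norm_num) hge)
    · exact Or.inl h
  have hker : ∀ z : P, piK e z = 1 → z = 1 := fun z hz => eq_one_of_piK e r₀ hS h2K hgood hz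
  -- `-1` a square or equal characteristics, otherwise the degree is seven
  have hbranch : IsSquare (-1 : K) ∨ p = r₀ := by
    by_contra hne
    push Not at hne
    obtain ⟨hsq, hpr⟩ := hne
    rw [FiniteField.isSquare_neg_one_iff, not_not] at hsq
    obtain ⟨x, hx⟩ := piK_surjective e (upU (1 : K))
    have hx0 : piK e (x ^ r₀) = 1 := by rw [map_pow, hx, upU_pow_char]
    have hx1 : x ^ r₀ = 1 := hker _ hx0
    have hrF : (r₀ : F) ≠ 0 := fun h =>
      hpr ((Nat.prime_dvd_prime_iff_eq Fact.out Fact.out).mp ((CharP.cast_eq_zero_iff F p r₀).mp h))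
    have hsc : ∀ c : F, ((x : GL (Fin 3) F) : Matrix (Fin 3) (Fin 3) F) ≠ c • 1 := fun c hc => by
      have := (piK_eq_one e).mpr ⟨c, hc⟩
      rw [hx] at this
      exact one_ne_zero (upU_eq_one_iff.mp this)
    have hD := distinctEigen_of_odd h2F hH x.2 hr0odd hrF (congrArg Subtype.val hx1) hsc
    obtain ⟨z, hz⟩ := IsCyclic.exists_generator (α := Kˣ)
    obtain ⟨T, hT⟩ := piK_surjective e (torEl z)
    have hc := lift_comm e r₀ hS hgood (a := T * x * T⁻¹) (b := x)
      (by rw [map_mul, map_mul, map_inv, hT, hx, torEl_conj]; exact upU_mem _)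
      (by rw [hx]; exact upU_mem _)
    have h6 := hD.commute_pow_six (t := (T : GL (Fin 3) F)) (by simpa using congrArg Subtype.val hc)
    have h6' : T ^ 6 * x = x * T ^ 6 := Subtype.ext (by simpa using h6)
    have hz12 : z ^ 12 = 1 := by
      have e1 : T ^ 6 * x * (T ^ 6)⁻¹ = x := by rw [h6', mul_inv_cancel_right]
      have e2 := congrArg (piK e) e1
      rw [map_mul, map_mul, map_inv, map_pow, hT, hx, torEl_pow_conj] at e2
      have e3 := upU_injective e2
      rw [mul_one] at e3
      refine Units.ext ?_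
      rw [Units.val_pow_eq_pow_val, Units.val_one, ← e3]
      ring
    have hord : orderOf z = r - 1 := by
      rw [orderOf_eq_card_of_forall_mem_zpowers hz, Nat.card_units, Nat.card_eq_fintype_card]
    have hdvd : r - 1 ∣ 12 := hord ▸ orderOf_dvd_of_pow_eq_one hz12
    have : r - 1 ≤ 12 := Nat.le_of_dvd (by norm_num) hdvd
    have hr13 : r ≤ 13 := by omega
    rw [← hr] at hsq
    interval_cases hh : r <;> first | omega | norm_num at hdvd
  refine Or.inl (exists_quad_of_traces hS.abs h2F (by decide) fun y hy => ?_)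
  let x : P := ⟨y, hy⟩
  by_cases hu : IsUni (piK e x) ∧ ¬ IsSquare (-1 : K)
  · have hpr := hbranch.resolve_left hu.2
    subst hpr
    have h1 : piK e (x ^ p) = 1 := by rw [map_pow, pow_char_eq_one_of_isUni p hu.1]
    have h2 : y ^ p = 1 := congrArg Subtype.val (hker _ h1)
    rw [trace_eq_three h2, trace_eq_three (p := p) (by rw [inv_pow, h2, inv_one])]
  · obtain ⟨g, hg⟩ := exists_inverter' h2K (piK e x) (by tauto)
    obtain ⟨G, rfl⟩ := piK_surjective e g
    have h1 : G * x * G⁻¹ = x⁻¹ := by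
      have : piK e ((G * x * G⁻¹) * x) = 1 := by rw [map_mul, map_mul, map_mul, map_inv, hg, inv_mul_cancel]
      exact eq_inv_of_mul_eq_one_left (hker _ this)
    have h2 : (G : GL (Fin 3) F) * y * (G : GL (Fin 3) F)⁻¹ = y⁻¹ := congrArg Subtype.val h1
    rw [← h2, Units.val_mul, Units.val_mul, Matrix.trace_mul_comm, ← mul_assoc, ← Units.val_mul, inv_mul_cancel,
      Units.val_one, one_mul]

end Cfsg.Agent.Linear.Mitchell.PSLTwo
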