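import Cfsg.Agent.Linear.Mitchell.Quotient
import Cfsg.Agent.Linear.Mitchell.PSLTwo.Real
import Cfsg.Agent.H86.PSLSizes.Split

/-!
`P` modulo scalars is `PSL₂(K)`: lifts of the unipotent subgroup commute and the scalars in `P` are trivial.
-/

set_option autoImplicit false

namespace Cfsg.Agent.Linear.Mitchell.PSLTwo

open Matrix Cfsg.Geo Cfsg.Agent.Linear Cfsg.Agent.Linear.Dickson
open scoped MatrixGroups commutatorElement

variable {F : Type*} [Field F] {P : Subgroup (GL (Fin 3) F)} {K : Type*} [Field K] [Fintype K]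

local notation "P2" => Matrix.ProjectiveSpecialLinearGroup (Fin 2) K

variable (e : PX P ≃* Matrix.ProjectiveSpecialLinearGroup (Fin 2) K)

/-- The projection to `PSL₂(K)`. -/
noncomputable def piK (e : PX P ≃* P2) : P →* P2 := (MulEquiv.toMonoidHom e).comp (px P)

theorem piK_surjective : Function.Surjective (piK e) := e.surjective.comp px_surjective

theorem piK_eq_one {x : P} : piK e x = 1 ↔ ∃ c : F, ((x : GL (Fin 3) F) : Matrix (Fin 3) (Fin 3) F) = c • 1 := by
  rw [← px_eq_one]
  exact e.map_eq_one_iff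

theorem piK_central {z : P} (hz : piK e z = 1) (g : P) : z * g = g * z := by
  obtain ⟨c, hc⟩ := (piK_eq_one e).mp hz
  refine Subtype.ext (Units.ext ?_)
  simp [hc]

theorem commutator_eq_of_piK {a a' b b' : P} (ha : piK e a = piK e a') (hb : piK e b = piK e b') :
    ⁅a, b⁆ = ⁅a', b'⁆ := by
  have key : ∀ u z w : P, piK e z = 1 → ⁅u * z, w⁆ = ⁅u, w⁆ ∧ ⁅w, u * z⁆ = ⁅w, u⁆ := fun u z w hz => by
    have hc := piK_central e hz
    constructor
    · rw [commutatorElement_def, commutatorElement_def, _root_.mul_inv_rev,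
        show u * z * w * (z⁻¹ * u⁻¹) * w⁻¹ = u * (z * w) * z⁻¹ * u⁻¹ * w⁻¹ by group, hc w]
      group
    · rw [commutatorElement_def, commutatorElement_def, _root_.mul_inv_rev,
        show w * (u * z) * w⁻¹ * (z⁻¹ * u⁻¹) = w * u * (z * w⁻¹) * z⁻¹ * u⁻¹ by group, hc w⁻¹]
      group
  have h1 : piK e (a⁻¹ * a') = 1 := by rw [map_mul, map_inv, ha, inv_mul_cancel]
  have h2 : piK e (b⁻¹ * b') = 1 := by rw [map_mul, map_inv, hb, inv_mul_cancel]
  rw [← (key a _ b h1).1, mul_inv_cancel_left, ← (key b _ a' h2).2, mul_inv_cancel_left]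

variable {p : ℕ} [Fact p.Prime] [CharP F p] (r₀ : ℕ) [Fact r₀.Prime] [CharP K r₀] (hS : Setting P)

theorem eq_one_of_three (h3 : p = 3) (hS : Setting P) {z : P} (hz : piK e z = 1) : z = 1 := by
  obtain ⟨c, hc⟩ := (piK_eq_one e).mp hz
  have hc3 := hS.scalar_cube z.2 hc
  subst h3
  have h30 : (3 : F) = 0 := by exact_mod_cast CharP.cast_eq_zero F 3
  have hc1 : c = 1 := sub_eq_zero.mp (eq_zero_of_pow_eq_zero (n := 3)
    (show (c - 1) ^ 3 = 0 by linear_combination hc3 - (c ^ 2 - c) * h30))
  refine Subtype.ext (Units.ext ?_)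
  rw [hc, hc1, one_smul]
  rfl

theorem pow_three_eq_one (hS : Setting P) {z : P} (hz : piK e z = 1) : z ^ 3 = 1 := by
  obtain ⟨c, hc⟩ := (piK_eq_one e).mp hz
  refine Subtype.ext (Units.ext ?_)
  rw [Subgroup.coe_pow, Units.val_pow_eq_pow_val, hc, smul_pow, one_pow, hS.scalar_cube z.2 hc, one_smul]
  rfl

omit [Fintype K] [Fact r₀.Prime] [CharP K r₀] in
theorem exists_good (h30 : (3 : K) = 0) [Fintype K] (hK : 27 ≤ Fintype.card K) :
    ∃ x y : K, x ≠ 0 ∧ y ≠ 0 ∧ x * x ≠ 1 ∧ y * y = 1 + x * x := by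
  open Polynomial in
  obtain ⟨t, ht⟩ : ∃ t : K, t * (t * t - 1) * (t * t + 1) * (t * t + t - 1) * (t * t - t - 1) ≠ 0 := by
    by_contra hall
    push Not at hall
    set f : K[X] := X * (X * X - 1) * (X * X + 1) * (X * X + X - 1) * (X * X - X - 1) with hf
    have h9 : f.Monic := by rw [hf]; monicity!
    refine h9.ne_zero (Polynomial.eq_zero_of_natDegree_lt_card_of_eval_eq_zero (f := id) f Function.injective_id
      (fun i => by simpa [hf] using hall i) (lt_of_le_of_lt ?_ (lt_of_lt_of_le (by norm_num : 9 < 27) hK)))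
    rw [hf]
    compute_degree
  simp only [ne_eq, mul_eq_zero, not_or] at ht
  obtain ⟨⟨⟨⟨h0, h1⟩, h2⟩, h3⟩, h4⟩ := ht
  refine ⟨t⁻¹ - t, -(t + t⁻¹), ?_, ?_, ?_, ?_⟩
  · intro h
    field_simp at h
    exact h1 (by linear_combination -h)
  · intro h
    field_simp at h
    exact h2 (by linear_combination -h)
  · intro h
    rcases mul_self_eq_one_iff.mp h with e | e <;> field_simp at e
    · exact h3 (by linear_combination -e)
    · exact h4 (by linear_combination -e)
  · field_simp
    linear_combination (t ^ 2) * h30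

include hS in
/-- Lifts of elements of the unipotent subgroup commute. -/
theorem lift_comm (h : r₀ ≠ 3 ∨ p = 3 ∨ 27 ≤ Fintype.card K) {a b : P}
    (ha : piK e a ∈ cen (stdUni : P2)) (hb : piK e b ∈ cen (stdUni : P2)) : a * b = b * a := by
  suffices ⁅a, b⁆ = 1 by rwa [commutatorElement_eq_one_iff_mul_comm] at this
  obtain ⟨u, hu⟩ := exists_upU ha
  obtain ⟨v, hv⟩ := exists_upU hb
  have hker : ∀ {a b : P}, piK e a * piK e b = piK e b * piK e a → piK e ⁅a, b⁆ = 1 := fun h => by
    rw [map_commutatorElement, commutatorElement_eq_one_iff_mul_comm, h]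
  have hab : piK e a * piK e b = piK e b * piK e a := by
    rw [← hu, ← hv, ← upU_add, ← upU_add, add_comm]
  have hz := hker hab
  by_cases h3p : p = 3
  · exact eq_one_of_three e h3p hS hz
  by_cases hr : r₀ = 3
  swap
  · -- the order of the commutator divides both three and the characteristic
    have h1 : a ^ r₀ * b = b * a ^ r₀ := piK_central e (by rw [map_pow, ← hu, upU_pow_char]) b
    have h2 : ∀ m : ℕ, a ^ m * b = ⁅a, b⁆ ^ m * b * a ^ m := by
      intro m
      induction m with
      | zero => simp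
      | succ k ih =>
        have hab' : a * b = ⁅a, b⁆ * b * a := by rw [commutatorElement_def]; group
        rw [pow_succ', mul_assoc, ih, show a * (⁅a, b⁆ ^ k * b * a ^ k) = (a * ⁅a, b⁆ ^ k) * b * a ^ k by group,
          ← piK_central e (by rw [map_pow, hz, one_pow]) a, mul_assoc (⁅a, b⁆ ^ k) a b, hab', pow_succ]
        group
    have h5 : ⁅a, b⁆ ^ r₀ = 1 := by
      have := h2 r₀
      rw [h1, mul_assoc] at this
      exact mul_right_cancel (b := b * a ^ r₀) (by rw [one_mul, ← this])
    have hco : Nat.gcd 3 r₀ = 1 := (Nat.coprime_primes (by norm_num) Fact.out).mpr (Ne.symm hr)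
    have := pow_gcd_eq_one.mpr ⟨pow_three_eq_one e hS hz, h5⟩
    rwa [hco, pow_one] at this
  have hK := (h.resolve_left (not_not.mpr hr)).resolve_left h3p
  subst hr
  have h30 : (3 : K) = 0 := by exact_mod_cast CharP.cast_eq_zero K 3
  choose L hL using piK_surjective e
  let C : K → K → P := fun x y => ⁅L (upU x), L (upU y)⁆
  have hC : ∀ x y, piK e (C x y) = 1 := fun x y => hker (by rw [hL, hL, ← upU_add, ← upU_add, add_comm])
  have hCadd : ∀ x x' y, C (x + x') y = C x y * C x' y := fun x x' y => by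
    show ⁅L (upU (x + x')), L (upU y)⁆ = _
    rw [commutator_eq_of_piK e (a' := L (upU x) * L (upU x')) (b' := L (upU y))
      (by rw [map_mul, hL, hL, hL, upU_add]) rfl,
      show ⁅L (upU x) * L (upU x'), L (upU y)⁆ =
        L (upU x) * C x' y * (L (upU x))⁻¹ * C x y by simp only [C, commutatorElement_def]; group,
      ← piK_central e (hC x' y), mul_inv_cancel_right, piK_central e (hC x' y)]
  have hCadd' : ∀ x y y', C x (y + y') = C x y * C x y' := fun x y y' => by
    have hsw : ∀ p q, C p q = (C q p)⁻¹ := fun p q => (commutatorElement_inv _ _).symm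
    rw [hsw, hCadd, _root_.mul_inv_rev, ← hsw, ← hsw, piK_central e (hC x y')]
  have hCinv : ∀ (s : K), s ≠ 0 → ∀ x y, C (s * s * x) (s * s * y) = C x y := fun s hs x y => by
    obtain ⟨T, hT⟩ := piK_surjective e (torEl (Units.mk0 s hs))
    show ⁅_, _⁆ = _
    rw [commutator_eq_of_piK e (a' := T * L (upU x) * T⁻¹) (b' := T * L (upU y) * T⁻¹)
      (by rw [map_mul, map_mul, map_inv, hL, hT, hL, torEl_conj, Units.val_mk0])
      (by rw [map_mul, map_mul, map_inv, hL, hT, hL, torEl_conj, Units.val_mk0]),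
      show ⁅T * L (upU x) * T⁻¹, T * L (upU y) * T⁻¹⁆ = T * C x y * T⁻¹ by
        simp only [C, commutatorElement_def]; group,
      ← piK_central e (hC x y), mul_inv_cancel_right]
  obtain ⟨x, y, hx0, hy0, hx1, hxy⟩ := exists_good h30 hK
  set κ : K := 1 + (x * x)⁻¹ - (y * y)⁻¹ with hκ
  have hκ0 : κ ≠ 0 := fun h => by
    rw [hκ, hxy] at h
    have hy' : (1 : K) + x * x ≠ 0 := hxy ▸ mul_ne_zero hy0 hy0
    have e' : ∀ w : K, w ≠ 0 → 1 + w ≠ 0 →
        w * (1 + w) * (1 + w⁻¹ - (1 + w)⁻¹) = (w - 1) ^ 2 + 3 * w := fun w hw hw' => by field_simp; ring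
    have e := e' (x * x) (mul_ne_zero hx0 hx0) hy'
    rw [h, mul_zero, h30, zero_mul, add_zero] at e
    exact hx1 (sub_eq_zero.mp (eq_zero_of_pow_eq_zero (n := 2) e.symm))
  have hone : ∀ p q, C p (κ * q) = 1 := fun p q => by
    have e1 : C (y * y * p) q = C p q * C (x * x * p) q := by rw [← hCadd, hxy]; ring_nf
    have hmove : ∀ s : K, s ≠ 0 → C (s * s * p) q = C p ((s * s)⁻¹ * q) := fun s hs => by
      conv_lhs => rw [show q = s * s * ((s * s)⁻¹ * q) by field_simp]
      rw [hCinv s hs]
    rw [hmove y hy0, hmove x hx0, ← hCadd'] at e1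
    have e2 : C p (κ * q + (y * y)⁻¹ * q) = C p ((y * y)⁻¹ * q) := by
      rw [e1]; congr 1; rw [hκ]; ring
    rw [hCadd'] at e2
    exact mul_eq_right.mp e2
  have := hone u (κ⁻¹ * v)
  rw [mul_inv_cancel_left₀ hκ0] at this
  rw [← this]
  exact commutator_eq_of_piK e (by rw [hL, hu]) (by rw [hL, hv])

include hS in
/-- The scalars in `P` are trivial. -/
theorem eq_one_of_piK [Finite F] (h2K : (2 : K) ≠ 0) (h : r₀ ≠ 3 ∨ p = 3 ∨ 27 ≤ Fintype.card K) {z : P}
    (hz : piK e z = 1) : z = 1 := by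
  classical
  by_contra hne
  haveI : Fact (Nat.Prime 3) := ⟨Nat.prime_three⟩
  have hz3 := pow_three_eq_one e hS hz
  have hzc : z ∈ Subgroup.center P := Subgroup.mem_center_iff.mpr fun g => (piK_central e hz g).symm
  have hperf : commutator P = ⊤ := by
    apply Subgroup.map_injective P.subtype_injective
    rw [Subgroup.map_subtype_commutator, ← MonoidHom.range_eq_map, Subgroup.range_subtype, hS.perfect]
  obtain ⟨S, hab⟩ : ∃ S : Sylow 3 P, ∀ a ∈ (S : Subgroup P), ∀ b ∈ (S : Subgroup P), a * b = b * a := by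
    by_cases hr : r₀ = 3
    · subst hr
      set U := (cen (stdUni : P2)) with hU
      have hU3 : IsPGroup 3 U := isPGroup_cen_stdUni 3
      have hidx : ¬ 3 ∣ U.index := by
        intro hd
        obtain ⟨f, -, hf⟩ := FiniteField.card K 3
        have h1 := U.card_mul_index
        have hq := card_PSL_two_mul (F := K)
        rw [← h1, hU, card_cen_stdUni] at hq
        have h3 : U.index ∣ Fintype.card K ^ 2 - 1 := by
          refine ⟨Nat.gcd 2 (Fintype.card K - 1), Nat.eq_of_mul_eq_mul_left (Fintype.card_pos (α := K)) ?_⟩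
          rw [hU, ← hq]; ring
        have h4 : 3 ∣ Fintype.card K ^ 2 := dvd_pow (hf ▸ dvd_pow_self 3 f.ne_zero) two_ne_zero
        have h5 := Nat.dvd_sub h4 (hd.trans h3)
        rw [Nat.sub_sub_self (Nat.one_le_pow _ _ Fintype.card_pos)] at h5
        norm_num at h5
      have hpre : IsPGroup 3 (U.comap (piK e)) := fun a => by
        refine ⟨2, Subtype.ext ?_⟩
        obtain ⟨x, hx⟩ := exists_upU a.2
        have : piK e ((a : P) ^ 3) = 1 := by rw [map_pow, ← hx, upU_pow_char]
        rw [Subgroup.coe_pow, show 3 ^ 2 = 3 * 3 by norm_num, pow_mul, pow_three_eq_one e hS this, Subgroup.coe_one]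
      obtain ⟨S, hle⟩ := hpre.exists_le_sylow
      have hmap : ((S : Subgroup P).map (piK e)) = U := (hU3.toSylow hidx).3 (S.2.map _) (fun y hy => by
        obtain ⟨a, rfl⟩ := piK_surjective e y
        exact ⟨a, hle hy, rfl⟩)
      exact ⟨S, fun a ha b hb => lift_comm e 3 hS h (hmap.le (Subgroup.mem_map_of_mem _ ha))
        (hmap.le (Subgroup.mem_map_of_mem _ hb))⟩
    · let S : Sylow 3 P := default
      refine ⟨S, fun a ha b hb => ?_⟩
      set T := (S : Subgroup P).map (piK e) with hT
      obtain ⟨g, -, hcyc, hTg⟩ : ∃ g : P2, g ∈ T ∧ (IsCyclic (cen g) ∨ T = ⊥) ∧ T ≤ cen g := by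
        by_cases hT0 : T = ⊥
        · exact ⟨1, T.one_mem, Or.inr hT0, hT0 ▸ bot_le⟩
        haveI : Nontrivial T := (Subgroup.nontrivial_iff_ne_bot T).mpr hT0
        haveI := (S.2.map (piK e)).center_nontrivial
        obtain ⟨g, hg⟩ := exists_ne (1 : Subgroup.center T)
        obtain ⟨n, hn⟩ := (S.2.map (piK e)) (g : T)
        refine ⟨((g : T) : P2), (g : T).2, Or.inl (isCyclic_cen fun hu => hg ?_), fun t ht => ?_⟩
        · have h1 : ((g : T) : P2) ^ r₀ = 1 := pow_char_eq_one_of_isUni r₀ hu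
          have h2 : ((g : T) : P2) ^ 3 ^ n = 1 := congrArg Subtype.val hn
          have := pow_gcd_eq_one.mpr ⟨h2, h1⟩
          rw [((Nat.coprime_primes Nat.prime_three Fact.out).mpr (Ne.symm hr)).pow_left n, pow_one] at this
          exact Subtype.ext (Subtype.ext this)
        · have h1 := congrArg Subtype.val (Subgroup.mem_center_iff.mp g.2 ⟨t, ht⟩)
          simp only [Subgroup.coe_mul] at h1
          obtain ⟨X, hX⟩ := proj_surjective (F := K) ((g : T) : P2)
          obtain ⟨Y, rfl⟩ := proj_surjective t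
          rw [← hX, ← map_mul, ← map_mul, proj_eq_iff] at h1
          rw [← hX]
          refine mem_cen_proj.mpr (Subgroup.mem_centralizer_singleton_iff.mpr (h1.elim (fun h => h.symm) fun h => ?_))
          exfalso
          have htr : (X : Matrix (Fin 2) (Fin 2) K).trace = 0 := by
            have e2 : Y * X * Y⁻¹ = -X := by
              have e3 : Y * X = -(X * Y) := by rw [h, neg_neg]
              rw [e3, neg_mul, mul_inv_cancel_right]
            have e4 := congrArg (fun A : Matrix.SpecialLinearGroup (Fin 2) K => (A : Matrix (Fin 2) (Fin 2) K).trace) e2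
            simp only [Matrix.SpecialLinearGroup.coe_mul, Matrix.SpecialLinearGroup.coe_neg, Matrix.trace_neg] at e4
            rw [Matrix.trace_mul_comm, ← mul_assoc, ← Matrix.SpecialLinearGroup.coe_mul, inv_mul_cancel,
              Matrix.SpecialLinearGroup.coe_one, one_mul] at e4
            exact (mul_eq_zero.mp (show (2 : K) * _ = 0 by linear_combination e4)).resolve_left h2K
          have hsq : ((g : T) : P2) ^ 2 = 1 := by
            rw [← hX, sq, ← map_mul, proj_eq_one_iff, Matrix.SpecialLinearGroup.coe_mul, SL_sq_eq, htr]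
            simp [IsScalarTwo]
          have h3' : ((g : T) : P2) ^ 3 ^ n = 1 := congrArg Subtype.val hn
          have := pow_gcd_eq_one.mpr ⟨h3', hsq⟩
          rw [(show Nat.Coprime 3 2 by norm_num).pow_left n, pow_one] at this
          exact hg (Subtype.ext (Subtype.ext this))
      rcases hcyc with hcyc | hT0
      · let φ : (S : Subgroup P) →* cen g :=
          MonoidHom.mk' (fun s => ⟨piK e s, hTg ⟨s, s.2, rfl⟩⟩) fun s t => Subtype.ext (map_mul (piK e) s.1 t.1)
        haveI := hcyc
        have := commutative_of_cyclic_center_quotient φ (fun s hs => Subgroup.mem_center_iff.mpr fun t =>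
          Subtype.ext (piK_central e (congrArg Subtype.val (MonoidHom.mem_ker.mp hs)) t).symm) ⟨a, ha⟩ ⟨b, hb⟩
        exact congrArg Subtype.val this
      · exact piK_central e (Subgroup.mem_bot.mp (hT0 ▸ Subgroup.mem_map_of_mem _ ha)) b
  have hzS : z ∈ (S : Subgroup P) := by
    have hp : IsPGroup 3 (Subgroup.zpowers z) := fun w => ⟨1, Subtype.ext (by
      obtain ⟨k, hk⟩ := Subgroup.mem_zpowers_iff.mp w.2
      rw [Subgroup.coe_pow, pow_one, ← hk, ← zpow_natCast, ← _root_.zpow_mul, mul_comm, _root_.zpow_mul, zpow_natCast, hz3, _root_.one_zpow,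
        Subgroup.coe_one])⟩
    haveI : (Subgroup.zpowers z).Normal := ⟨fun w hw g => by
      have : w ∈ Subgroup.center P := Subgroup.zpowers_le.mpr hzc hw
      rwa [Subgroup.mem_center_iff.mp this g, mul_inv_cancel_right]⟩
    exact hp.le_sylow_of_normal S (Subgroup.mem_zpowers z)
  have hbot : ⁅(S : Subgroup P), (S : Subgroup P)⁆ = ⊥ := by
    rw [eq_bot_iff, Subgroup.commutator_le]
    intro a ha b hb
    rw [Subgroup.mem_bot, commutatorElement_eq_one_iff_mul_comm, hab a ha b hb]
  exact hne (Subgroup.mem_bot.mp (hbot ▸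
    H86.PSLSizes.mem_derived_of_central S hzS hzc (hperf ▸ Subgroup.mem_top z)))

end Cfsg.Agent.Linear.Mitchell.PSLTwo
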